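import Cfsg.Agent.Lib.ThreeTransp.Fi23Iso.Hyps
import Cfsg.Agent.Lib.ThreeTransp.M23Iso.Main

/-!
Two groups with a transposition centraliser of the shape of a double cover of Fi22 whose classes are
classes of 3-transpositions of type M(23) are isomorphic.
-/

set_option autoImplicit false

namespace Cfsg.Agent.ThreeTransp.Fi23Iso

universe u v

theorem center_map {G : Type u} [Group G] (d : G)
    [((Subgroup.zpowers d).subgroupOf (Subgroup.centralizer ({d} : Set G))).Normal]
    (e : Cfsg.Spor.IsoFi22 ((Subgroup.centralizer ({d} : Set G)) ⧸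
      (Subgroup.zpowers d).subgroupOf (Subgroup.centralizer ({d} : Set G)))) :
    (Subgroup.center ↥(Subgroup.centralizer ({d} : Set G))).map
      (Subgroup.centralizer ({d} : Set G)).subtype = Subgroup.zpowers d := by
  obtain ⟨e⟩ := e
  have hdC : d ∈ Subgroup.centralizer ({d} : Set G) :=
    Subgroup.mem_centralizer_singleton_iff.2 rfl
  refine le_antisymm ?_ (Subgroup.zpowers_le.2 ⟨⟨d, hdC⟩, Subgroup.mem_center_iff.2 fun x =>
    Subtype.ext (Subgroup.mem_centralizer_singleton_iff.1 x.2), rfl⟩)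
  rintro _ ⟨z, hz, rfl⟩
  have h : e (QuotientGroup.mk z) ∈ Subgroup.center Cfsg.Spor.Fi22 := by
    rw [Subgroup.mem_center_iff]
    intro y
    obtain ⟨y, rfl⟩ := e.surjective y
    obtain ⟨y, rfl⟩ := QuotientGroup.mk_surjective y
    rw [← map_mul, ← map_mul, ← QuotientGroup.mk_mul, ← QuotientGroup.mk_mul,
      Subgroup.mem_center_iff.1 hz y]
  rw [InvChar.Coset.FiUnit.center_Fi, Subgroup.mem_bot, map_eq_one_iff _ e.injective,
    QuotientGroup.eq_one_iff, Subgroup.mem_subgroupOf] at h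
  exact h

/-- Uniqueness from the centralisers. -/
theorem iso_of_type {G : Type u} [Group G] [Finite G] (d : G) (hd : orderOf d = 2)
    (hq : Cfsg.IsQuasisimple (Subgroup.centralizer ({d} : Set G)))
    [((Subgroup.zpowers d).subgroupOf (Subgroup.centralizer ({d} : Set G))).Normal]
    (e : Cfsg.Spor.IsoFi22 ((Subgroup.centralizer ({d} : Set G)) ⧸
      (Subgroup.zpowers d).subgroupOf (Subgroup.centralizer ({d} : Set G))))
    (hnwc : ∃ g : G, g * d * g⁻¹ ∈ Subgroup.centralizer ({d} : Set G) ∧ g * d * g⁻¹ ≠ d)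
    (hG : Cfsg.IsThreeTranspositionClass (conjugatesOf d) ∧
      Cfsg.IsOfTypeM23 G (conjugatesOf d))
    {G' : Type v} [Group G'] [Finite G'] (d' : G') (hd' : orderOf d' = 2)
    (hq' : Cfsg.IsQuasisimple (Subgroup.centralizer ({d'} : Set G')))
    [((Subgroup.zpowers d').subgroupOf (Subgroup.centralizer ({d'} : Set G'))).Normal]
    (e' : Cfsg.Spor.IsoFi22 ((Subgroup.centralizer ({d'} : Set G')) ⧸
      (Subgroup.zpowers d').subgroupOf (Subgroup.centralizer ({d'} : Set G'))))
    (hnwc' : ∃ g : G', g * d' * g⁻¹ ∈ Subgroup.centralizer ({d'} : Set G') ∧ g * d' * g⁻¹ ≠ d')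
    (hG' : Cfsg.IsThreeTranspositionClass (conjugatesOf d') ∧
      Cfsg.IsOfTypeM23 G' (conjugatesOf d')) : Nonempty (G ≃* G') := by
  obtain ⟨f, -⟩ := M23Iso.exists_iso (Classes.of_class hG.1).1
    (primitive_of_centralizer d hd hq (center_map d e) hnwc hG.1) hG.2 (Classes.of_class hG'.1).1
    (primitive_of_centralizer d' hd' hq' (center_map d' e') hnwc' hG'.1) hG'.2
  exact ⟨f⟩

end Cfsg.Agent.ThreeTransp.Fi23Iso
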