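import Cfsg.Agent.Lib.ThreeTransp.Fi22Model.Type
import Cfsg.Agent.Lib.ThreeTransp.M22.Perfect
import Cfsg.Agent.Lib.ThreeTransp.M22.Graph
import Cfsg.Agent.Lib.ThreeTransp.Radical
import Cfsg.Agent.GenA.Tower.Transport
import Cfsg.Prelude.Def_CaseTheorems

/-!
What recognition of Fi23 by a transposition centraliser needs: the presented Fi22 as a group of type
M(22), primitivity from a quasisimple centraliser, and the centraliser in the presented Fi23.
-/

set_option autoImplicit false
set_option linter.unusedSectionVars false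

namespace Cfsg.Agent.ThreeTransp.Fi23Iso

open Cfsg.Agent.ThreeTransp
open Cfsg.Agent.ThreeTransp.Factor (nb Hd Sd mem_Hd Hd_commute)
open scoped commutatorElement

universe u v

theorem class_of_trans {G : Type u} [Group G] {D : Set G}
    (hD : Cfsg.IsThreeTranspositionGroup D) (hprim : Cfsg.IsPrimitiveUnderConj D) :
    Cfsg.IsThreeTranspositionClass D := by
  obtain ⟨a, ha, -⟩ := id hprim.2.1
  refine ⟨hD.1, ⟨a, ha, Set.ext fun y => ⟨fun hy => isConj_iff.2 (hprim.1 a ha y hy), ?_⟩⟩, hD.2.2⟩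
  intro hy
  obtain ⟨g, rfl⟩ := isConj_iff.1 hy
  exact hD.2.1 g a ha

theorem class_map {A : Type u} {B : Type v} [Group A] [Group B] (e : A ≃* B) {D : Set A}
    (h : Cfsg.IsThreeTranspositionClass D) : Cfsg.IsThreeTranspositionClass (e '' D) := by
  obtain ⟨⟨h1, h2⟩, ⟨a, ha, hcls⟩, htop⟩ := h
  refine ⟨⟨?_, ?_⟩, ⟨e a, ⟨a, ha, rfl⟩, ?_⟩, ?_⟩
  · rintro _ ⟨d, hd, rfl⟩
    rw [MulEquiv.orderOf_eq, h1 d hd]
  · rintro _ ⟨d, hd, rfl⟩ _ ⟨c, hc, rfl⟩
    rw [← map_mul, ← map_pow, ← map_pow, map_eq_one_iff _ e.injective,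
      map_eq_one_iff _ e.injective]
    exact h2 d hd c hc
  · ext y
    constructor
    · rintro ⟨d, hd, rfl⟩
      obtain ⟨g, rfl⟩ := isConj_iff.1 (hcls ▸ hd : d ∈ conjugatesOf a)
      exact isConj_iff.2 ⟨e g, by simp⟩
    · intro hy
      obtain ⟨g, rfl⟩ := isConj_iff.1 hy
      refine ⟨e.symm g * a * (e.symm g)⁻¹, ?_, by simp⟩
      rw [hcls]
      exact isConj_iff.2 ⟨_, rfl⟩
  · have h := congrArg (Subgroup.map e.toMonoidHom) htop
    rw [MonoidHom.map_closure, Subgroup.map_top_of_surjective _ e.surjective] at h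
    exact h

/-- A class of 3-transpositions of a simple group is primitive. -/
theorem primitive_simple {G : Type u} [Group G] [Finite G] [IsSimpleGroup G]
    (hperf : commutator G = ⊤) {D : Set G} (hD : Cfsg.IsThreeTranspositionClass D) :
    Cfsg.IsPrimitiveUnderConj D ∧ ∃ a ∈ D, ∃ b ∈ D, a ≠ b ∧ Commute a b := by
  have hsol : ∀ N : Subgroup G, N.Normal → Group.IsSolvable ↥N → N = ⊥ := by
    intro N hN hs
    rcases IsSimpleGroup.eq_bot_or_eq_top_of_normal N hN with h | h
    · exact h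
    exfalso
    subst h
    haveI : Group.IsSolvable G :=
      Group.isSolvable_of_surjective (f := (Subgroup.topEquiv : ↥(⊤ : Subgroup G) ≃* G).toMonoidHom)
        Subgroup.topEquiv.surjective
    exact (Group.IsSolvable.commutator_lt_top_of_nontrivial G).ne hperf
  obtain ⟨h1, h2, -⟩ := Radical.primitive hsol (by rw [hperf]; exact hperf) hD
  exact ⟨h1, h2⟩

/-- In a group of type M(22) a member has a quasisimple centraliser of the expected shape. -/
theorem exists_invol {G : Type u} [Group G] [Finite G] {D : Set G}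
    (hD : Cfsg.IsThreeTranspositionGroup D) (hprim : Cfsg.IsPrimitiveUnderConj D)
    (h22 : Cfsg.IsOfTypeM22 G D) :
    ∃ d' : G, orderOf d' = 2 ∧ Cfsg.IsQuasisimple (Subgroup.centralizer ({d'} : Set G)) ∧
      (∃ (K : Type) (_ : Field K) (_ : Fintype K), Fintype.card K = 4 ∧
        ∃ _ : ((Subgroup.zpowers d').subgroupOf (Subgroup.centralizer ({d'} : Set G))).Normal,
          Nonempty ((Subgroup.centralizer ({d'} : Set G)) ⧸
            (Subgroup.zpowers d').subgroupOf (Subgroup.centralizer ({d'} : Set G)) ≃*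
              Cfsg.PSU 6 K 2)) ∧
      ∃ g, g * d' * g⁻¹ ∈ Subgroup.centralizer ({d'} : Set G) ∧ g * d' * g⁻¹ ≠ d' := by
  obtain ⟨a, ha, -⟩ := id hprim.2.1
  obtain ⟨-, -, F, i1, i2, hF, ⟨φ⟩⟩ := (Factor.M22_core hD h22).2.2 a ha
  have hc := M22.centralizer_eq hD hprim h22 ha
  have hz := M22.center_eq hD hprim h22 ha
  refine ⟨a, hD.1.1 a ha, ?_, ⟨F, i1, i2, by rw [hF]; norm_num, ?_⟩, ?_⟩
  · rw [hc]
    haveI := Classical.Unitary.isSimpleGroup_PSU (n := 6) hF (by norm_num) (by norm_num)
    exact ⟨⟨M22.perfect_Hd hD hprim h22 ha⟩, MulEquiv.isSimpleGroup φ⟩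
  · rw [hc, ← hz]
    exact ⟨inferInstance, ⟨φ⟩⟩
  · obtain ⟨p, hp, q, hq, hne, hpq⟩ := M22.exists_commuting hD hprim h22
    obtain ⟨k, hk⟩ := hprim.1 p hp a ha
    obtain ⟨g, hg⟩ := hprim.1 a ha (k * q * k⁻¹) (hD.2.1 k q hq)
    refine ⟨g, Subgroup.mem_centralizer_singleton_iff.2 ?_, ?_⟩
    · rw [hg, ← hk]; exact (Basic.commute_conj.2 hpq.symm).eq
    · rw [hg, ← hk]
      exact fun e => hne (mul_left_cancel (mul_right_cancel e)).symm

theorem perfect_Fi22 : commutator Cfsg.Spor.Fi22 = ⊤ := by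
  haveI := InvChar.Coset.Fi22B.simple_and_card.1
  refine ((IsSimpleGroup.eq_bot_or_eq_top_of_normal _ inferInstance).resolve_left fun h => ?_)
  have : Subgroup.center Cfsg.Spor.Fi22 = ⊤ := (commutator_eq_bot_iff_center_eq_top _).1 h
  rw [InvChar.Coset.FiUnit.center_Fi] at this
  exact bot_ne_top this

/-- A group isomorphic to the presented Fi22 has what the recognition theorem asks. -/
theorem fi22_hyps {Q : Type u} [Group Q] [Finite Q] (e : Q ≃* Cfsg.Spor.Fi22) :
    (∃ E : Set Q, Cfsg.IsThreeTranspositionClass E ∧ Cfsg.IsOfTypeM22 Q E) ∧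
    ∃ d' : Q, orderOf d' = 2 ∧ Cfsg.IsQuasisimple (Subgroup.centralizer ({d'} : Set Q)) ∧
      (∃ (K : Type) (_ : Field K) (_ : Fintype K), Fintype.card K = 4 ∧
        ∃ _ : ((Subgroup.zpowers d').subgroupOf (Subgroup.centralizer ({d'} : Set Q))).Normal,
          Nonempty ((Subgroup.centralizer ({d'} : Set Q)) ⧸
            (Subgroup.zpowers d').subgroupOf (Subgroup.centralizer ({d'} : Set Q)) ≃*
              Cfsg.PSU 6 K 2)) ∧
      ∃ g, g * d' * g⁻¹ ∈ Subgroup.centralizer ({d'} : Set Q) ∧ g * d' * g⁻¹ ≠ d' := by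
  haveI := InvChar.Coset.Fi22B.simple_and_card.1
  haveI : IsSimpleGroup Q := MulEquiv.isSimpleGroup e
  have hperf : commutator Q = ⊤ := by
    have h := congrArg (Subgroup.map e.symm.toMonoidHom) perfect_Fi22
    rw [_root_.commutator_def, Subgroup.map_commutator,
      Subgroup.map_top_of_surjective _ e.symm.surjective] at h
    exact h
  have hE := class_map e.symm (class_of_trans Fi22Model.grp Fi22Model.primitive)
  obtain ⟨hgrp, -⟩ := Classes.of_class hE
  have h22 := GenA.Tower.type22 e.symm Fi22Model.DD Fi22Model.type22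
  exact ⟨⟨_, hE, h22⟩, exists_invol hgrp (primitive_simple hperf hE).1 h22⟩

/-- A nonsplit double cover of a simple perfect group is quasisimple. -/
theorem quasisimple_of_cover {A : Type u} {K : Type v} [Group A] [Group K] [IsSimpleGroup K]
    (hperf : commutator K = ⊤) (h : Cfsg.IsNonsplitDoubleCover A K) :
    Cfsg.IsQuasisimple A := by
  obtain ⟨h1, ⟨i⟩, h3⟩ := h
  have hsim : IsSimpleGroup (A ⧸ Subgroup.center A) := MulEquiv.isSimpleGroup i
  refine ⟨⟨?_⟩, hsim⟩
  have hsup : commutator A ⊔ Subgroup.center A = ⊤ := by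
    have hq : commutator (A ⧸ Subgroup.center A) = ⊤ := by
      have h := congrArg (Subgroup.map i.symm.toMonoidHom) hperf
      rw [_root_.commutator_def, Subgroup.map_commutator,
        Subgroup.map_top_of_surjective _ i.symm.surjective] at h
      exact h
    have hm : (commutator A).map (QuotientGroup.mk' (Subgroup.center A)) = ⊤ := by
      rw [_root_.commutator_def, Subgroup.map_commutator,
        Subgroup.map_top_of_surjective _ (QuotientGroup.mk'_surjective _)]
      exact hq
    have := congrArg (Subgroup.comap (QuotientGroup.mk' (Subgroup.center A))) hm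
    rwa [Subgroup.comap_map_eq, QuotientGroup.ker_mk', Subgroup.comap_top] at this
  haveI : Finite ↥(Subgroup.center A) := Nat.finite_of_card_ne_zero (by rw [h1]; norm_num)
  haveI : Fact (Nat.card ↥(Subgroup.center A)).Prime := ⟨h1 ▸ Nat.prime_two⟩
  rcases ((commutator A).subgroupOf (Subgroup.center A)).eq_bot_or_eq_top_of_prime_card with h | h
  · exfalso
    refine h3 (commutator A) (Subgroup.isComplement'_of_disjoint_and_mul_eq_univ ?_ ?_)
    · rw [disjoint_iff, eq_bot_iff]
      intro x ⟨hx1, hx2⟩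
      have : (⟨x, hx1⟩ : ↥(Subgroup.center A)) ∈
          (commutator A).subgroupOf (Subgroup.center A) := hx2
      rw [h, Subgroup.mem_bot] at this
      exact congrArg Subtype.val this
    · rw [← Subgroup.mul_normal, sup_comm, hsup]; rfl
  · rw [← hsup, eq_comm]
    exact sup_eq_left.2 (Subgroup.subgroupOf_eq_top.1 h)

/-- A class with quasisimple centraliser in a group of type M(23) is primitive. -/
theorem primitive_of_centralizer {G : Type u} [Group G] [Finite G] (d : G) (hd : orderOf d = 2)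
    (hq : Cfsg.IsQuasisimple (Subgroup.centralizer ({d} : Set G)))
    (hZC : (Subgroup.center ↥(Subgroup.centralizer ({d} : Set G))).map
      (Subgroup.centralizer ({d} : Set G)).subtype = Subgroup.zpowers d)
    (hnwc : ∃ g : G, g * d * g⁻¹ ∈ Subgroup.centralizer ({d} : Set G) ∧ g * d * g⁻¹ ≠ d)
    (hcls : Cfsg.IsThreeTranspositionClass (conjugatesOf d)) :
    Cfsg.IsPrimitiveUnderConj (conjugatesOf d) := by
  obtain ⟨hG, htr⟩ := Classes.of_class hcls
  obtain ⟨C, hC⟩ : ∃ C, C = Subgroup.centralizer ({d} : Set G) := ⟨_, rfl⟩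
  rw [← hC] at hq hnwc hZC
  have hdd : d * d = 1 := by rw [← pow_two, ← hd, pow_orderOf_eq_one]
  have hdC : d ∈ C := hC ▸ Subgroup.mem_centralizer_singleton_iff.2 rfl
  have hperfC := hq.1.commutator_eq_top
  -- the centraliser lies in the derived group
  have hCG : C ≤ commutator G := by
    have h := congrArg (Subgroup.map C.subtype) hperfC
    rw [Subgroup.map_subtype_commutator, ← MonoidHom.range_eq_map, Subgroup.range_subtype] at h
    rw [← h, _root_.commutator_def]
    exact Subgroup.commutator_mono le_top le_top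
  have hperf : commutator G = ⊤ := by
    rw [eq_top_iff, ← hcls.2.2, Subgroup.closure_le]
    intro x hx
    obtain ⟨g, rfl⟩ := isConj_iff.1 hx
    exact (inferInstance : (commutator G).Normal).conj_mem d (hCG hdC) g
  have hsolC : ∀ M : Subgroup ↥C, M.Normal → M = ⊤ ∨ M ≤ Subgroup.center ↥C := by
    intro M hM
    haveI := hq.2
    rcases IsSimpleGroup.eq_bot_or_eq_top_of_normal _
      (Subgroup.Normal.map hM _ (QuotientGroup.mk'_surjective (Subgroup.center ↥C))) with h | h
    · rw [Subgroup.map_eq_bot_iff, QuotientGroup.ker_mk'] at h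
      exact Or.inr h
    · left
      have h' : M ⊔ Subgroup.center ↥C = ⊤ := by
        have := congrArg (Subgroup.comap (QuotientGroup.mk' (Subgroup.center ↥C))) h
        rwa [Subgroup.comap_map_eq, QuotientGroup.ker_mk', Subgroup.comap_top] at this
      rw [eq_top_iff, ← hperfC, _root_.commutator_def, Subgroup.commutator_le]
      intro x hx y hy
      rw [← h'] at hx hy
      obtain ⟨m, hm, z, hz, rfl⟩ := Subgroup.mem_sup_of_normal_left.1 hx
      obtain ⟨n, hn, w, hw, rfl⟩ := Subgroup.mem_sup_of_normal_left.1 hy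
      refine (QuotientGroup.eq_one_iff _).1 ?_
      show QuotientGroup.mk' M ⁅m * z, n * w⁆ = 1
      rw [map_commutatorElement, map_mul, map_mul,
        show QuotientGroup.mk' M m = 1 from (QuotientGroup.eq_one_iff _).2 hm,
        show QuotientGroup.mk' M n = 1 from (QuotientGroup.eq_one_iff _).2 hn, one_mul, one_mul,
        ← map_commutatorElement, commutatorElement_eq_one_iff_mul_comm.2
          (Subgroup.mem_center_iff.1 hw z), map_one]
  have hCnt : Nontrivial (↥C ⧸ Subgroup.center ↥C) := hq.2.toNontrivial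
  have hnsC : ¬ Group.IsSolvable ↥C := fun hs => by
    haveI := hs
    haveI : Nontrivial ↥C := ⟨⟨⟨d, hdC⟩, 1, fun e => by
      have e' : d = 1 := congrArg Subtype.val e
      simp [e'] at hd⟩⟩
    exact (Group.IsSolvable.commutator_lt_top_of_nontrivial ↥C).ne hperfC
  refine (Radical.primitive (fun N hN hs => ?_) (by rw [hperf]; exact hperf) hcls).1
  haveI := hN
  -- the fixed points of `d` in `N`
  by_cases hdN : d ∈ N
  · exfalso
    have htop : N = ⊤ := by
      rw [eq_top_iff, ← hcls.2.2, Subgroup.closure_le]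
      intro x hx
      obtain ⟨g, rfl⟩ := isConj_iff.1 hx
      exact hN.conj_mem d hdN g
    subst htop
    haveI := hs
    haveI : Group.IsSolvable G :=
      Group.isSolvable_of_surjective (f := (Subgroup.topEquiv : ↥(⊤ : Subgroup G) ≃* G).toMonoidHom)
        Subgroup.topEquiv.surjective
    exact hnsC inferInstance
  have hfix : ∀ n ∈ N, Commute n d → n = 1 := by
    intro n hn hnd
    haveI := hs
    have hnC : n ∈ C := hC ▸ Subgroup.mem_centralizer_singleton_iff.2 hnd
    rcases hsolC (N.subgroupOf C) (hN.subgroupOf C) with h | h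
    · exfalso
      exact hnsC (Group.isSolvable_of_isSolvable_injective (f := Subgroup.inclusion
        (Subgroup.subgroupOf_eq_top.1 h)) (Subgroup.inclusion_injective _))
    · have hm : n ∈ Subgroup.zpowers d := hZC ▸ ⟨⟨n, hnC⟩, h (Subgroup.mem_subgroupOf.2 hn), rfl⟩
      obtain ⟨k, rfl⟩ := Subgroup.mem_zpowers_iff.1 hm
      obtain ⟨m, rfl⟩ | ⟨m, rfl⟩ := Int.even_or_odd k
      · rw [← two_mul, zpow_mul, zpow_two, hdd, _root_.one_zpow]
      · rw [zpow_add, zpow_one, zpow_mul, zpow_two, hdd, _root_.one_zpow, one_mul] at hn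
        exact absurd hn hdN
  -- every member of the class inverts `N`
  have hinv : ∀ n ∈ N, d * n * d⁻¹ = n⁻¹ := by
    let σ : ↥N →* ↥N :=
      { toFun := fun y => ⟨_, hN.conj_mem _ y.2 d⟩
        map_one' := Subtype.ext (by simp)
        map_mul' := fun y w => Subtype.ext (by simp [mul_assoc]) }
    have hσ : MonoidHom.FixedPointFree σ := fun y hy => Subtype.ext (hfix _ y.2
      (mul_inv_eq_iff_eq_mul.1 (congrArg Subtype.val hy : d * (y : G) * d⁻¹ = y)).symm)
    have hsq : σ^[2] = id := by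
      funext y
      apply Subtype.ext
      show d * (d * (y : G) * d⁻¹) * d⁻¹ = y
      rw [show d * (d * (y : G) * d⁻¹) * d⁻¹ = (d * d) * y * (d * d)⁻¹ by group, hdd]
      simp
    exact fun n hn => congrArg Subtype.val (congrFun (hσ.coe_eq_inv_of_sq_eq_one hsq) ⟨n, hn⟩)
  obtain ⟨g, hgC, hgne⟩ := hnwc
  obtain ⟨e, he⟩ : ∃ e, e = g * d * g⁻¹ := ⟨_, rfl⟩
  rw [← he] at hgC hgne
  have hinve : ∀ n ∈ N, e * n * e⁻¹ = n⁻¹ := by
    intro n hn
    have h := hinv _ (hN.conj_mem n hn g⁻¹)
    rw [he, show g * d * g⁻¹ * n * (g * d * g⁻¹)⁻¹ =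
      g * (d * (g⁻¹ * n * g⁻¹⁻¹) * d⁻¹) * g⁻¹ by group, h]
    group
  let M : Subgroup ↥C := (Subgroup.centralizer (N : Set G)).subgroupOf C
  have hdeM : (⟨d * e, mul_mem hdC hgC⟩ : ↥C) ∈ M := by
    refine Subgroup.mem_subgroupOf.2 (Subgroup.mem_centralizer_iff.2 fun n hn => ?_)
    show n * (d * e) = d * e * n
    have h : d * e * n * (d * e)⁻¹ = n := by
      rw [show d * e * n * (d * e)⁻¹ = d * (e * n * e⁻¹) * d⁻¹ by group, hinve n hn,
        hinv _ (inv_mem hn), inv_inv]
    exact (mul_inv_eq_iff_eq_mul.1 h).symm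
  have hMn : M.Normal := by
    haveI : (Subgroup.centralizer (N : Set G)).Normal := inferInstance
    exact Subgroup.Normal.subgroupOf inferInstance C
  rcases hsolC M hMn with h | h
  · rw [eq_bot_iff]
    intro n hn
    rw [Subgroup.mem_bot]
    refine hfix n hn ?_
    have := Subgroup.mem_centralizer_iff.1 (Subgroup.subgroupOf_eq_top.1 h hdC) n hn
    exact this
  · exfalso
    have hm : d * e ∈ Subgroup.zpowers d := hZC ▸ ⟨_, h hdeM, rfl⟩
    have he2 : e ∈ Subgroup.zpowers d := by
      have := mul_mem (inv_mem (Subgroup.mem_zpowers d)) hm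
      rwa [inv_mul_cancel_left] at this
    obtain ⟨k, hk⟩ := Subgroup.mem_zpowers_iff.1 he2
    obtain ⟨m, rfl⟩ | ⟨m, rfl⟩ := Int.even_or_odd k
    · rw [← two_mul, zpow_mul, zpow_two, hdd, _root_.one_zpow, he] at hk
      have : d = 1 := conj_eq_one_iff.1 hk.symm
      simp [this] at hd
    · rw [zpow_add, zpow_one, zpow_mul, zpow_two, hdd, _root_.one_zpow, one_mul] at hk
      exact hgne hk.symm

end Cfsg.Agent.ThreeTransp.Fi23Iso
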